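import Groth.Agent.ProjS1.Basic
import Groth.Agent.CMFlat.Localization
import Groth.Agent.CMChart.Scheme

/-!
# Cohen–Macaulay rings and homogeneous localization
-/

noncomputable section

set_option backward.isDefEq.respectTransparency false
set_option backward.isDefEq.respectTransparency.types false

universe u

open IsLocalRing RingTheory.Sequence

namespace Groth.Agent.ProjCM

/-- A system of parameters of a Cohen–Macaulay local ring can be chosen from an ideal which is primary to the
maximal ideal after extension. -/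
theorem exists_regular_sop : ∀ (N : ℕ) (S : Type u) [CommRing S] [LocCoh.IsCohenMacaulayLocalRing S],
    ringKrullDim S = (N : WithBot ℕ∞) → ∀ (R : Type u) [CommRing R] (φ : R →+* S) (J : Ideal R),
      J.map φ ≤ maximalIdeal S → maximalIdeal S ≤ (J.map φ).radical →
      ∃ rs : List R, rs.length = N ∧ (∀ r ∈ rs, r ∈ J) ∧ IsWeaklyRegular S (rs.map φ) ∧
        maximalIdeal S ≤ (Ideal.ofList (rs.map φ)).radical := by
  intro N
  induction N with
  | zero =>
    intro S _ _ hN R _ φ J _ _
    refine ⟨[], rfl, by simp, IsWeaklyRegular.nil S S, fun x hx => ?_⟩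
    rw [List.map_nil, Ideal.ofList_nil]
    show x ∈ nilradical S
    rw [nilradical_eq_sInf]
    refine Submodule.mem_sInf.2 fun (P : Ideal S) (hP : P.IsPrime) => ?_
    haveI : Ring.KrullDimLE 0 S := (Ring.krullDimLE_iff).2 (le_of_eq hN)
    exact ((hP.isMaximal').eq_of_le (maximalIdeal.isMaximal S).ne_top
      (le_maximalIdeal hP.ne_top)).symm ▸ hx
  | succ N ih =>
    intro S _ _ hN R _ φ J hJ hrad
    obtain ⟨x, hxJ, hx⟩ : ∃ x ∈ J, ∀ q ∈ associatedPrimes S S, φ x ∉ q := by
      by_contra hcon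
      push Not at hcon
      have hfin := associatedPrimes.finite S S
      obtain ⟨q, hq, hle⟩ := (Ideal.subset_union_prime (s := hfin.toFinset) (f := fun q => q.comap φ) ⊥ ⊥
        (fun i hi _ _ => by
          haveI := IsAssociatedPrime.isPrime (hfin.mem_toFinset.mp hi)
          infer_instance)).mp
        (show (J : Set R) ⊆ _ from fun z hz => by
          obtain ⟨q, hq, hzq⟩ := hcon z hz
          exact Set.mem_iUnion₂.mpr ⟨q, hfin.mem_toFinset.mpr hq, hzq⟩)
      have hq' := hfin.mem_toFinset.mp hq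
      haveI := IsAssociatedPrime.isPrime hq'
      have hmax : maximalIdeal S ≤ q := hrad.trans
        ((Ideal.IsPrime.isRadical inferInstance).radical_le_iff.2 (Ideal.map_le_iff_le_comap.2 hle))
      have h0 := Ideal.height_eq_zero_iff.2 (CMFlat.associatedPrimes_subset_minimalPrimes S hq')
      have hq0 : maximalIdeal S = q := (maximalIdeal.isMaximal S).eq_of_le (Ideal.IsPrime.ne_top inferInstance) hmax
      have hd := IsLocalRing.maximalIdeal_height_eq_ringKrullDim (R := S)
      rw [hN, hq0, h0] at hd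
      simp only [WithBot.coe_zero] at hd
      exact absurd (show (0 : ℕ) = N + 1 by exact_mod_cast hd) (by omega)
    have hxm : φ x ∈ maximalIdeal S := hJ (Ideal.mem_map_of_mem φ hxJ)
    have hreg : IsSMulRegular S (φ x) := fun u v huv => sub_eq_zero.1 (by
      by_contra hne
      have hz : φ x * (u - v) = 0 := by rw [mul_sub, sub_eq_zero]; exact huv
      have : φ x ∈ ⋃ P ∈ associatedPrimes S S, (P : Set S) := by
        rw [biUnion_associatedPrimes_eq_zero_divisors]
        exact ⟨u - v, hne, hz⟩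
      obtain ⟨q, hq, hxq⟩ := Set.mem_iUnion₂.1 this
      exact hx q hq hxq)
    obtain ⟨hCM, hdim⟩ := CMFlat.isCohenMacaulayLocalRing_quotient S hxm hreg hN
    let π := Ideal.Quotient.mk (Ideal.span {φ x})
    have hmax : (maximalIdeal S).map π = maximalIdeal (S ⧸ Ideal.span {φ x}) :=
      IsLocalRing.map_maximalIdeal_of_surjective π Ideal.Quotient.mk_surjective
    obtain ⟨rs, hlen, hrsJ, hw, hr⟩ := ih (S ⧸ Ideal.span {φ x}) hdim R (π.comp φ) J
      (by rw [← Ideal.map_map, ← hmax]; exact Ideal.map_mono hJ)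
      (by rw [← Ideal.map_map, ← hmax]; exact (Ideal.map_mono hrad).trans (Ideal.map_radical_le _))
    refine ⟨x :: rs, by simp [hlen], fun r hr' => ?_, ?_, fun y hy => ?_⟩
    · rcases List.mem_cons.1 hr' with rfl | hr'
      exacts [hxJ, hrsJ r hr']
    · rw [List.map_cons, isWeaklyRegular_cons_iff]
      refine ⟨hreg, ?_⟩
      have e : QuotSMulTop (φ x) S ≃ₗ[S] S ⧸ Ideal.span {φ x} := Submodule.quotEquivOfEq _ _ (by
        rw [← Submodule.ideal_span_singleton_smul, smul_eq_mul, Ideal.mul_top])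
      refine (e.isWeaklyRegular_congr _).2
        ((isWeaklyRegular_map_algebraMap_iff (S := S ⧸ Ideal.span {φ x}) (S ⧸ Ideal.span {φ x}) (rs.map φ)).1 ?_)
      rw [List.map_map]
      exact hw
    · rw [List.map_cons, Ideal.ofList_cons]
      have h1 : π y ∈ (Ideal.ofList (rs.map (π.comp φ))).radical :=
        hr (hmax ▸ Ideal.mem_map_of_mem π hy)
      obtain ⟨k, hk⟩ := h1
      rw [← map_pow, RingHom.coe_comp, ← List.map_map, ← Ideal.map_ofList, Ideal.mem_quotient_iff_mem_sup] at hk
      exact ⟨k, by rwa [sup_comm] at hk⟩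

/-- A local ring in which every ideal is contracted from a Cohen–Macaulay local ring, the maximal ideal extending
to a primary ideal, is Cohen–Macaulay. -/
theorem cm_of_contracted {R S : Type u} [CommRing R] [IsLocalRing R] [IsNoetherianRing R] [CommRing S]
    [LocCoh.IsCohenMacaulayLocalRing S] (φ : R →+* S) (hc : ∀ I : Ideal R, (I.map φ).comap φ ≤ I)
    (hm : (maximalIdeal R).map φ ≤ maximalIdeal S) (hrad : maximalIdeal S ≤ ((maximalIdeal R).map φ).radical) :
    LocCoh.IsCohenMacaulayLocalRing R := by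
  obtain ⟨N, hN⟩ := SerreReg.exists_dim_nat S
  obtain ⟨rs, hlen, hrsm, hw, hr⟩ := exists_regular_sop N S hN R φ (maximalIdeal R) hm hrad
  have hw' : IsWeaklyRegular R rs := by
    refine ⟨fun i hi => ?_⟩
    intro u v huv
    obtain ⟨u, rfl⟩ := Submodule.Quotient.mk_surjective _ u
    obtain ⟨v, rfl⟩ := Submodule.Quotient.mk_surjective _ v
    simp only [← Submodule.Quotient.mk_smul, Submodule.Quotient.eq, smul_eq_mul, Ideal.mul_top, ← mul_sub] at huv ⊢
    have h1 := hw.regular_mod_prev i (by simpa using hi)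
    refine hc _ (Ideal.mem_comap.2 ?_)
    rw [Ideal.map_ofList, List.map_take]
    have h2 := Ideal.mem_map_of_mem φ huv
    rw [Ideal.map_ofList, List.map_take, map_mul] at h2
    have h3 : Submodule.Quotient.mk (p := Ideal.ofList ((rs.map φ).take i) • (⊤ : Submodule S S)) (φ (u - v)) = 0 := by
      refine h1.right_eq_zero_of_smul ?_
      rw [← Submodule.Quotient.mk_smul, Submodule.Quotient.mk_eq_zero, smul_eq_mul, smul_eq_mul, Ideal.mul_top,
        List.getElem_map]
      exact h2
    rwa [Submodule.Quotient.mk_eq_zero, smul_eq_mul, Ideal.mul_top] at h3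
  obtain ⟨d, hd⟩ := SerreReg.exists_dim_nat R
  refine CMFlat.isCohenMacaulayLocalRing_of_dim_le_depth hd
    (le_trans ?_ (CMFlat.le_depth_of_isWeaklyRegular hw' hrsm))
  have hle : Ideal.span {r | r ∈ rs} ≤ maximalIdeal R := Ideal.span_le.2 hrsm
  have hmin : maximalIdeal R ∈ (Ideal.span {r | r ∈ rs}).minimalPrimes := by
    refine ⟨⟨inferInstance, hle⟩, ?_⟩
    rintro P ⟨hP, hIP⟩ - y hy
    obtain ⟨k, hk⟩ := hr (hm (Ideal.mem_map_of_mem φ hy))
    rw [← Ideal.map_ofList, ← map_pow] at hk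
    exact hP.mem_of_pow_mem k (hIP (hc _ hk))
  classical
  have hh := Ideal.height_le_card_of_mem_minimalPrimes_span_finset (s := rs.toFinset)
    (show maximalIdeal R ∈ (Ideal.span (rs.toFinset : Set R)).minimalPrimes by rwa [List.coe_toFinset])
  have hd' := IsLocalRing.maximalIdeal_height_eq_ringKrullDim (R := R)
  rw [hd, ← WithBot.coe_natCast, WithBot.coe_inj] at hd'
  rw [← hd']
  exact hh.trans (by exact_mod_cast List.toFinset_card_le rs)

open HomogeneousLocalization

variable {A : Type u} [CommRing A] (𝒜 : ℕ → AddSubgroup A) [GradedRing 𝒜] (p : Ideal A) [p.IsPrime]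

theorem proj_mem_numIdeal (J : Ideal (AtPrime 𝒜 p)) {a : A} (ha : a ∈ ProjS1.numIdeal 𝒜 p J) (i : ℕ) :
    GradedRing.proj 𝒜 i a ∈ ProjS1.numIdeal 𝒜 p J := by
  have hh : (ProjS1.numIdeal 𝒜 p J).IsHomogeneous 𝒜 := Ideal.homogeneous_span 𝒜 _ fun x ⟨c, _, e⟩ =>
    ⟨c.deg, e ▸ c.num.2⟩
  exact hh i ha

/-- Every ideal of the homogeneous localization at a homogeneous prime is contracted from the localization. -/
theorem comap_map_le (I : Ideal (AtPrime 𝒜 p)) :
    (I.map (algebraMap (AtPrime 𝒜 p) (Localization.AtPrime p))).comap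
      (algebraMap (AtPrime 𝒜 p) (Localization.AtPrime p)) ≤ I := by
  intro z hz
  obtain ⟨c, rfl⟩ := HomogeneousLocalization.mk_surjective z
  have h1 : I.map (algebraMap (AtPrime 𝒜 p) (Localization.AtPrime p)) ≤
      (ProjS1.numIdeal 𝒜 p I).map (algebraMap A (Localization.AtPrime p)) := by
    rw [Ideal.map_le_iff_le_comap]
    intro w hw
    obtain ⟨e, rfl⟩ := HomogeneousLocalization.mk_surjective w
    rw [Ideal.mem_comap, HomogeneousLocalization.algebraMap_apply, val_mk, Localization.mk_eq_mk',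
      IsLocalization.mk'_eq_mul_mk'_one]
    exact Ideal.mul_mem_right _ _ (Ideal.mem_map_of_mem _ (Ideal.subset_span ⟨e, hw, rfl⟩))
  have h2 := h1 hz
  rw [HomogeneousLocalization.algebraMap_apply, val_mk, Localization.mk_eq_mk',
    IsLocalization.mk'_mem_map_algebraMap_iff p.primeCompl] at h2
  obtain ⟨s, hs, hsc⟩ := h2
  obtain ⟨j, hj⟩ : ∃ j, GradedRing.proj 𝒜 j s ∉ p := by
    by_contra hcon
    push Not at hcon
    apply hs
    classical
    rw [← DirectSum.sum_support_decompose 𝒜 s]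
    exact Ideal.sum_mem _ fun i _ => by simpa only [GradedRing.proj_apply] using hcon i
  have hmem : GradedRing.proj 𝒜 j s * (c.num : A) ∈ ProjS1.numIdeal 𝒜 p I := by
    have := proj_mem_numIdeal 𝒜 p I hsc (j + c.deg)
    rwa [GradedRing.proj_apply, DirectSum.coe_decompose_mul_add_of_right_mem 𝒜 c.num.2,
      ← GradedRing.proj_apply] at this
  have hden : GradedRing.proj 𝒜 j s * (c.den : A) ∈ p.primeCompl := p.primeCompl.mul_mem hj c.den_mem
  have h3 := ProjS1.mem_of_num_mem 𝒜 p I ⟨j + c.deg,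
    ⟨_, SetLike.mul_mem_graded (ProjS1.proj_mem 𝒜 j s) c.num.2⟩,
    ⟨_, SetLike.mul_mem_graded (ProjS1.proj_mem 𝒜 j s) c.den.2⟩, hden⟩ hmem
  convert h3 using 1
  apply HomogeneousLocalization.val_injective
  rw [val_mk, val_mk, Localization.mk_eq_mk_iff, Localization.r_iff_exists]
  exact ⟨1, by simp only [OneMemClass.coe_one, one_mul]; ring⟩

/-- The homogeneous localization of a Cohen–Macaulay ring at a relevant homogeneous prime. -/
theorem cm_atPrime [LocCoh.IsCohenMacaulayRing A] (hp : p.IsHomogeneous 𝒜) {d : ℕ} (hd : 0 < d) {f : A}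
    (hfd : f ∈ 𝒜 d) (hfp : f ∉ p) : LocCoh.IsCohenMacaulayLocalRing (AtPrime 𝒜 p) := by
  haveI := LocCoh.IsCohenMacaulayRing.isCohenMacaulayLocalRing_localization (R := A) p
  haveI : IsNoetherianRing (AtPrime 𝒜 p) := ProjS1.isNoetherianRing 𝒜 p
  set φ := algebraMap (AtPrime 𝒜 p) (Localization.AtPrime p)
  have hloc : ∀ z, z ∈ maximalIdeal (AtPrime 𝒜 p) ↔ φ z ∈ maximalIdeal (Localization.AtPrime p) := fun z => by
    rw [mem_maximalIdeal, mem_maximalIdeal, mem_nonunits_iff, mem_nonunits_iff]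
    exact (not_congr (isUnit_iff_isUnit_val 𝒜 p z)).symm
  refine cm_of_contracted φ (comap_map_le 𝒜 p) (Ideal.map_le_iff_le_comap.2 fun z hz => (hloc z).1 hz) ?_
  rw [← Localization.AtPrime.map_eq_maximalIdeal, Ideal.map_le_iff_le_comap]
  intro a ha
  classical
  rw [← DirectSum.sum_support_decompose 𝒜 a]
  refine Ideal.sum_mem _ fun n _ => ?_
  set b := ((DirectSum.decompose 𝒜 a) n : A) with hb
  have hbn : b ∈ 𝒜 n := SetLike.coe_mem _
  have hbp : b ∈ p := hp n ha
  have hnd : b ^ d ∈ 𝒜 (d * n) := by simpa only [smul_eq_mul] using SetLike.pow_mem_graded d hbn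
  have hfj : f ^ n ∈ 𝒜 (d * n) := by
    simpa only [smul_eq_mul, mul_comm] using SetLike.pow_mem_graded n hfd
  let e : NumDenSameDeg 𝒜 p.primeCompl :=
    ⟨d * n, ⟨_, hnd⟩, ⟨_, hfj⟩, fun h => hfp (‹p.IsPrime›.mem_of_pow_mem n h)⟩
  have hval : φ (HomogeneousLocalization.mk e) * algebraMap A (Localization.AtPrime p) (f ^ n) =
      algebraMap A (Localization.AtPrime p) (b ^ d) := by
    show (HomogeneousLocalization.mk e).val * _ = _
    rw [val_mk, Localization.mk_eq_mk']
    exact IsLocalization.mk'_spec _ _ _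
  have he : HomogeneousLocalization.mk e ∈ maximalIdeal (AtPrime 𝒜 p) := by
    rw [hloc]
    show (HomogeneousLocalization.mk e).val ∈ _
    rw [val_mk, Localization.mk_eq_mk', IsLocalization.AtPrime.mk'_mem_maximal_iff (Localization.AtPrime p) p]
    exact Ideal.pow_mem_of_mem p hbp d hd
  rw [Ideal.mem_comap]
  refine ⟨d, ?_⟩
  rw [← map_pow, ← hval]
  exact Ideal.mul_mem_right _ _ (Ideal.mem_map_of_mem φ he)

open AlgebraicGeometry in
/-- Every local ring of `Proj A` is Cohen–Macaulay if `A` is. -/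
theorem cm_stalk (A : Type u) [CommRing A] (𝒜 : ℕ → AddSubgroup A) [GradedRing 𝒜]
    [LocCoh.IsCohenMacaulayRing A] (x : Proj 𝒜) :
    LocCoh.IsCohenMacaulayLocalRing ((Proj 𝒜).presheaf.stalk x) := by
  obtain ⟨f, hf, hfx⟩ := SetLike.not_le_iff_exists.1 x.not_irrelevant_le
  obtain ⟨d, hd⟩ : ∃ d, GradedRing.proj 𝒜 d f ∉ x.asHomogeneousIdeal := by
    by_contra h
    push Not at h
    apply hfx
    classical
    rw [← DirectSum.sum_support_decompose 𝒜 f]
    exact Ideal.sum_mem _ fun i _ => (h i : _)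
  have hd0 : 0 < d := Nat.pos_of_ne_zero fun h0 => by
    subst h0
    exact hd (by rw [(HomogeneousIdeal.mem_irrelevant_iff 𝒜 f).1 hf]; exact Submodule.zero_mem _)
  exact @CMChart.isCohenMacaulayLocalRing_of_ringEquiv _ _ _ _ (Proj.stalkIso 𝒜 x).commRingCatIsoToRingEquiv.symm
    (cm_atPrime 𝒜 _ x.asHomogeneousIdeal.isHomogeneous hd0 (ProjS1.proj_mem 𝒜 d f) hd)

end Groth.Agent.ProjCM
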